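import Mathlib

universe u

open CategoryTheory AlgebraicGeometry

namespace Groth.Agent.QCRange

/-- A point in the closure of the range of a quasi-compact morphism is a specialization of a point
in the range. -/
theorem exists_specializes {X Y : Scheme.{u}} (f : X ⟶ Y) [QuasiCompact f] (z : Y)
    (hz : z ∈ closure (Set.range f.base)) : ∃ x : X, f.base x ⤳ z := by
  obtain ⟨V, hV, hzV, -⟩ := exists_isAffineOpen_mem_and_subset (X := Y) (U := ⊤) (x := z) trivial
  have hc : IsCompact ((f ⁻¹ᵁ V : X.Opens) : Set X) :=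
    QuasiCompact.isCompact_preimage (f := f) _ V.isOpen hV.isCompact
  obtain ⟨R, g, hg⟩ := isCompact_iff_exists.mp hc
  have hgV : Set.range (g ≫ f).base ⊆ Set.range hV.fromSpec.base := by
    rw [hV.range_fromSpec]
    rintro _ ⟨r, rfl⟩
    exact (hg.le ⟨r, rfl⟩ : g.base r ∈ (f ⁻¹ᵁ V : X.Opens))
  obtain ⟨h, hh⟩ : ∃ h : Spec R ⟶ Spec Γ(Y, V), h ≫ hV.fromSpec = g ≫ f :=
    ⟨IsOpenImmersion.lift hV.fromSpec (g ≫ f) hgV, IsOpenImmersion.lift_fac _ _ _⟩
  obtain ⟨w, hw⟩ : z ∈ Set.range hV.fromSpec.base := by rw [hV.range_fromSpec]; exact hzV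
  obtain ⟨φ, rfl⟩ := Spec.map_surjective h
  have hcl' : w ∈ closure (Set.range (Spec.map φ).base) := by
    have h1 : z ∈ closure (Set.range f.base ∩ (V : Set Y)) := by
      rw [Set.inter_comm]
      exact V.2.inter_closure ⟨hzV, hz⟩
    have h2 : Set.range f.base ∩ (V : Set Y) ⊆
        hV.fromSpec.base '' Set.range (Spec.map φ).base := by
      rintro _ ⟨⟨x, rfl⟩, hxV⟩
      obtain ⟨r, hr⟩ : x ∈ Set.range g.base := hg.ge hxV
      refine ⟨_, ⟨r, rfl⟩, ?_⟩
      change (Spec.map φ ≫ hV.fromSpec).base r = _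
      rw [hh]
      simp only [Scheme.Hom.comp_base, TopCat.coe_comp, Function.comp_apply, hr]
    rw [hV.fromSpec.isOpenEmbedding.isInducing.closure_eq_preimage_closure_image,
      Set.mem_preimage, hw]
    exact closure_mono h2 h1
  have hcl : RingHom.ker φ.hom ≤ (w : PrimeSpectrum Γ(Y, V)).asIdeal := by
    let w' : PrimeSpectrum Γ(Y, V) := w
    change RingHom.ker φ.hom ≤ w'.asIdeal
    have hcl'' : w' ∈ closure (Set.range (PrimeSpectrum.comap φ.hom)) := hcl'
    rwa [PrimeSpectrum.closure_range_comap, PrimeSpectrum.mem_zeroLocus, SetLike.coe_subset_coe] at hcl''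
  obtain ⟨p, hp, hpw⟩ := Ideal.exists_minimalPrimes_le (J := w.asIdeal) hcl
  obtain ⟨q, hq, -, hqp⟩ := Ideal.exists_comap_eq_of_mem_minimalPrimes φ.hom (I := ⊥) p
    (by rwa [← RingHom.ker_eq_comap_bot])
  refine ⟨g.base ⟨q, hq⟩, ?_⟩
  have h3 : (PrimeSpectrum.comap φ.hom ⟨q, hq⟩ : PrimeSpectrum Γ(Y, V)) ⤳ w := by
    rw [← PrimeSpectrum.le_iff_specializes]
    change q.comap φ.hom ≤ w.asIdeal
    rw [hqp]; exact hpw
  have h4 := h3.map hV.fromSpec.continuous
  rw [hw] at h4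
  convert h4 using 1
  change (g ≫ f).base ⟨q, hq⟩ = (Spec.map φ ≫ hV.fromSpec).base ⟨q, hq⟩
  rw [hh]

end Groth.Agent.QCRange
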